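import Mathlib.RingTheory.LittleWedderburn
import Mathlib.FieldTheory.Finite.GaloisField
import Mathlib.FieldTheory.Finite.Basic
import Mathlib.RingTheory.TensorProduct.Basic
import Mathlib.LinearAlgebra.TensorProduct.Tower
import Mathlib.RingTheory.Jacobson.Ideal
import Mathlib.LinearAlgebra.Dual.Lemmas
import Mathlib.FieldTheory.Galois.Basic

/-!
Local finite algebras over a finite field: the lift of the residue field, and idempotents after base change.
-/

set_option autoImplicit false
set_option linter.style.haveILetI false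
universe u v

open scoped TensorProduct
open Polynomial

noncomputable section

namespace Groth.L21.CycBundle

variable {k : Type u} [Field k]

theorem expand_card_pow [Fintype k] (m : ℕ) (f : k[X]) :
    expand k (Fintype.card k ^ m) f = f ^ (Fintype.card k ^ m) := by
  induction m with
  | zero => simp
  | succ m ih =>
    rw [pow_succ', expand_mul, ih, FiniteField.expand_card, ← pow_mul, mul_comm (Fintype.card k) (Fintype.card k ^ m)]

variable {A : Type v} [Ring A] [Algebra k A]

/-- In a ring whose non-units are nilpotent they lie in the Jacobson radical. -/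
theorem mem_jacobson_of_nilpotent {A : Type v} [Ring A] [Nontrivial A] (hA : ∀ x : A, IsUnit x ∨ IsNilpotent x)
    {x : A} (hx : IsNilpotent x) : x ∈ Ring.jacobson A := by
  rw [Ring.jacobson, Module.jacobson, Submodule.mem_sInf]
  intro M hM
  by_contra hxM
  have htop : M ⊔ Ideal.span {x} = ⊤ := hM.2 _ (lt_of_le_of_ne le_sup_left fun h => hxM
    (h ▸ (le_sup_right : Ideal.span {x} ≤ M ⊔ Ideal.span {x}) (Ideal.mem_span_singleton_self x)))
  obtain ⟨m, hm, z, hz, hmz⟩ := Submodule.mem_sup.1 (htop.ge (Submodule.mem_top : (1 : A) ∈ ⊤))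
  obtain ⟨y, rfl⟩ := Ideal.mem_span_singleton'.1 hz
  refine hM.1 (Ideal.eq_top_of_isUnit_mem _ hm ?_)
  rw [eq_sub_of_add_eq hmz]
  refine ((hA (y * x)).resolve_left fun hu => ?_).isUnit_one_sub
  obtain ⟨w, hw⟩ := hu
  have h1 : (↑w⁻¹ * y) * x = 1 := by rw [mul_assoc, ← hw, Units.inv_mul]
  obtain ⟨n, hn⟩ := hx
  have h2 : ∀ l, x ^ l = 0 → (1 : A) = 0 := by
    intro l
    induction l with
    | zero => simp
    | succ l ih => exact fun hl => ih (by rw [← one_mul (x ^ l), ← h1, mul_assoc, ← pow_succ', hl, mul_zero])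
  exact one_ne_zero (h2 n hn)

/-- The residue field of a finite local algebra over a finite field lifts to the algebra. -/
theorem exists_lift [Finite k] [Module.Finite k A] [Nontrivial A] (hA : ∀ x : A, IsUnit x ∨ IsNilpotent x) :
    ∃ (D : Type v) (_ : Field D) (_ : Algebra k D) (_ : Module.Finite k D) (ι : D →ₐ[k] A),
      ∀ a, ∃ x, a - ι x ∈ Ring.jacobson A := by
  classical
  haveI := Fintype.ofFinite k
  haveI : Finite A := Module.finite_of_finite k
  haveI : IsArtinianRing A := isArtinian_of_finite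
  obtain ⟨N, hN⟩ := IsSemiprimaryRing.isNilpotent (R := A)
  let J := Ring.jacobson A
  let D := A ⧸ J
  haveI : Finite D := Quotient.finite _
  haveI : Nontrivial D := Ideal.Quotient.nontrivial_iff.2 fun h => by
    have h1 : (1 : A) ∈ J ^ N := by
      rw [show J = ⊤ from h, Ideal.top_pow]; trivial
    rw [show J ^ N = ⊥ from hN] at h1
    exact one_ne_zero ((Submodule.mem_bot A).1 h1)
  haveI : NoZeroDivisors D := ⟨fun {x y} hxy => by
    obtain ⟨a, rfl⟩ := Ideal.Quotient.mk_surjective x
    rcases hA a with hu | hn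
    · exact Or.inr ((hu.map (Ideal.Quotient.mk J)).mul_right_eq_zero.1 hxy)
    · exact Or.inl (Classical.byContradiction fun hne => by
        obtain ⟨b, hb⟩ := Ideal.Quotient.mk_surjective y
        exact hne (Ideal.Quotient.eq_zero_iff_mem.2 (mem_jacobson_of_nilpotent hA hn)))⟩
  haveI : IsDomain D := NoZeroDivisors.to_isDomain D
  letI : Field D := (Finite.isDomain_to_isField D).toField
  let π : A →ₐ[k] D := Ideal.Quotient.mkₐ k J
  haveI : Module.Finite k D := Module.Finite.of_surjective π.toLinearMap Ideal.Quotient.mk_surjective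
  haveI := Fintype.ofFinite D
  obtain ⟨g, hg⟩ := IsCyclic.exists_generator (α := Dˣ)
  obtain ⟨a, ha⟩ := Ideal.Quotient.mk_surjective (g : D)
  generalize hQ : Fintype.card k ^ Module.finrank k D = Q
  have hQD : Fintype.card D = Q := by rw [← hQ]; exact Module.card_eq_pow_finrank
  have hQ1 : 1 < Q := hQD ▸ Fintype.one_lt_card
  let f : k[X] := X ^ Q - X
  have hfa : aeval a f ∈ J := by
    refine Ideal.Quotient.eq_zero_iff_mem.1 ?_
    show π (aeval a f) = 0
    rw [← aeval_algHom_apply]
    simp only [f, map_sub, aeval_X_pow, aeval_X]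
    rw [← hQD, FiniteField.pow_card, sub_self]
  let θ := a ^ (Q ^ N)
  have hθ : θ ^ Q = θ := by
    have h1 : aeval a (f ^ (Q ^ N)) = 0 := by
      rw [map_pow]
      exact pow_eq_zero_of_le (Nat.lt_pow_self hQ1).le ((Submodule.mem_bot A).1 (hN.le (Ideal.pow_mem_pow hfa N)))
    have h2 : f ^ (Q ^ N) = X ^ (Q * Q ^ N) - X ^ (Q ^ N) := by
      subst hQ
      rw [← pow_mul, ← expand_card_pow]
      simp [f, expand_X, ← pow_mul, mul_comm]
    rw [h2, map_sub, aeval_X_pow, aeval_X_pow, sub_eq_zero, mul_comm, pow_mul] at h1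
    exact h1
  let φ : k[X] →ₐ[k] A := aeval θ
  have hπθ : π θ = g := by
    show π (a ^ (Q ^ N)) = _
    rw [map_pow, show π a = g from ha, ← hQD, FiniteField.pow_card_pow]
  let ψ : k[X] →ₐ[k] D := π.comp φ
  have hψ : Function.Surjective ψ := fun x => by
    by_cases hx : x = 0
    · exact ⟨0, by rw [map_zero, hx]⟩
    obtain ⟨i, hi⟩ := (mem_powers_iff_mem_zpowers.2 (hg (Units.mk0 x hx)))
    exact ⟨X ^ i, by simpa [ψ, φ, hπθ] using congrArg Units.val hi⟩
  have hker : ∀ p ∈ RingHom.ker ψ, φ p = 0 := fun p hp => by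
    have hexp : ∀ m, φ p ^ (Q ^ m) = φ p := fun m => by
      induction m with
      | zero => simp
      | succ m ih =>
        rw [pow_succ, pow_mul, ih, ← map_pow, ← hQ, ← expand_card_pow]
        show aeval θ (expand k _ p) = aeval θ p
        rw [expand_aeval, hQ, hθ]
    rw [← hexp N]
    exact pow_eq_zero_of_le (Nat.lt_pow_self hQ1).le
      ((Submodule.mem_bot A).1 (hN.le (Ideal.pow_mem_pow (Ideal.Quotient.eq_zero_iff_mem.1 hp) N)))
  let e := Ideal.quotientKerAlgEquivOfSurjective hψ
  let ι : D →ₐ[k] A := (Ideal.Quotient.liftₐ (RingHom.ker ψ) φ hker).comp e.symm.toAlgHom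
  refine ⟨D, inferInstance, inferInstance, inferInstance, ι, fun b => ⟨π b, ?_⟩⟩
  refine Ideal.Quotient.eq_zero_iff_mem.1 ?_
  show π (b - ι (π b)) = 0
  obtain ⟨p, hp⟩ := hψ (π b)
  have h1 : e.symm (π b) = Ideal.Quotient.mk _ p := by rw [AlgEquiv.symm_apply_eq, ← hp]; rfl
  have h2 : ι (π b) = φ p := by
    show Ideal.Quotient.liftₐ (RingHom.ker ψ) φ hker (e.symm (π b)) = _
    rw [h1]; rfl
  rw [map_sub, h2, ← hp]
  exact sub_self _

section BaseChange

variable (K : Type u) [Field K] [Algebra k K]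

/-- An algebra with residue field `k` has only the trivial idempotents after base change. -/
theorem idem_baseChange [Nontrivial (K ⊗[k] A)] {N : ℕ} (hN : Ring.jacobson A ^ N = ⊥)
    (hres : ∀ a : A, ∃ c : k, a - algebraMap k A c ∈ Ring.jacobson A) {z : K ⊗[k] A} (hz : z * z = z) :
    z = 0 ∨ z = 1 := by
  let i : A →ₐ[k] K ⊗[k] A := Algebra.TensorProduct.includeRight
  let S : ℕ → Submodule K (K ⊗[k] A) := fun m => Submodule.span K (i '' ((Ring.jacobson A ^ m : Ideal A) : Set A))
  have hmul : ∀ m, ∀ x ∈ S m, ∀ y ∈ S 1, x * y ∈ S (m + 1) := fun m x hx y hy => by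
    have h := Submodule.mul_mem_mul hx hy
    rw [Submodule.span_mul_span] at h
    refine Submodule.span_mono ?_ h
    rintro _ ⟨_, ⟨a, ha, rfl⟩, _, ⟨b, hb, rfl⟩, rfl⟩
    refine ⟨a * b, ?_, map_mul i a b⟩
    rw [SetLike.mem_coe, Submodule.pow_succ]
    rw [SetLike.mem_coe, Submodule.pow_one] at hb
    exact Ideal.mul_mem_mul ha hb
  have hnil : ∀ x ∈ S 1, IsNilpotent x := fun x hx => by
    have h : ∀ m, x ^ (m + 1) ∈ S (m + 1) := fun m => by
      induction m with
      | zero => simpa using hx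
      | succ m ih => rw [pow_succ]; exact hmul _ _ ih _ hx
    refine ⟨N + 1, ?_⟩
    have h0 : S (N + 1) = ⊥ := by
      rw [Submodule.span_eq_bot]
      rintro _ ⟨a, ha, rfl⟩
      rw [SetLike.mem_coe, Submodule.pow_succ, hN, Submodule.bot_mul, Submodule.mem_bot] at ha
      rw [ha, map_zero]
    exact (Submodule.mem_bot K).1 (h0 ▸ h N)
  have hS2 : ∀ x ∈ S 1, ∀ y ∈ S 1, x * y ∈ S 1 := fun x hx y hy => by
    refine Submodule.span_mono ?_ (hmul 1 x hx y hy)
    refine Set.image_mono ?_
    rw [Submodule.pow_succ]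
    exact Ideal.mul_le_left
  have hdec : ∀ x : K ⊗[k] A, ∃ c : K, x - c • 1 ∈ S 1 := fun x => by
    induction x using TensorProduct.induction_on with
    | zero => exact ⟨0, by simp⟩
    | add x y hx hy =>
      obtain ⟨c, hc⟩ := hx
      obtain ⟨d, hd⟩ := hy
      exact ⟨c + d, by rw [add_smul, add_sub_add_comm]; exact add_mem hc hd⟩
    | tmul c a =>
      obtain ⟨t, ht⟩ := hres a
      refine ⟨c * algebraMap k K t, ?_⟩
      have h : c ⊗ₜ[k] a - (c * algebraMap k K t) • (1 : K ⊗[k] A) = c • i (a - algebraMap k A t) := by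
        rw [map_sub, smul_sub, AlgHom.commutes, mul_smul, algebraMap_smul,
          Algebra.algebraMap_eq_smul_one (A := K ⊗[k] A) t]
        congr 1
        simp [i, TensorProduct.smul_tmul']
      rw [h]
      exact Submodule.smul_mem _ _ (Submodule.subset_span ⟨_, by rwa [SetLike.mem_coe, Submodule.pow_one], rfl⟩)
  obtain ⟨c, hc⟩ := hdec z
  obtain ⟨s, hs, rfl⟩ : ∃ s ∈ S 1, c • 1 + s = z := ⟨_, hc, add_sub_cancel _ _⟩
  have h1 : (c * c - c) • (1 : K ⊗[k] A) ∈ S 1 := by
    have h : (c * c - c) • (1 : K ⊗[k] A) = (1 - 2 * c) • s - s * s := by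
      simp only [add_mul, mul_add, smul_mul_assoc, mul_smul_comm, one_mul, mul_one, smul_smul] at hz
      linear_combination (norm := module) hz
    rw [h]
    exact sub_mem (Submodule.smul_mem _ _ hs) (hS2 _ hs _ hs)
  have h2 : c * c - c = 0 := by
    by_contra hne
    have := Submodule.smul_mem (S 1) (c * c - c)⁻¹ h1
    rw [smul_smul, inv_mul_cancel₀ hne, one_smul] at this
    exact not_isNilpotent_one (hnil _ this)
  have hidem : ∀ x : K ⊗[k] A, x * x = x → IsNilpotent x → x = 0 := fun x hx ⟨m, hm⟩ => by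
    have h : ∀ l, x ^ (l + 1) = x := fun l => by
      induction l with
      | zero => simp
      | succ l ih => rw [pow_succ, ih, hx]
    rw [← h m, pow_succ, hm, zero_mul]
  rcases mul_eq_zero.1 (show c * (c - 1) = 0 by rw [mul_sub, mul_one, h2]) with rfl | hc1
  · exact Or.inl (hidem _ hz (by rw [zero_smul, zero_add]; exact hnil _ hs))
  · obtain rfl := sub_eq_zero.1 hc1
    rw [one_smul] at hz ⊢
    refine Or.inr (add_eq_left.2 ?_)
    refine neg_eq_zero.1 (hidem (-s) ?_ (hnil _ hs).neg)
    rw [add_mul, mul_add, mul_add, one_mul, one_mul, mul_one, add_assoc] at hz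
    have h4 := add_left_cancel hz
    have h3 : s + s * s = 0 := add_left_cancel (h4.trans (add_zero s).symm)
    rw [neg_mul_neg]
    exact eq_neg_of_add_eq_zero_right h3

end BaseChange

section Galois

variable (k) (K : Type u) [Field K] [Algebra k K]

/-- `x ⊗ y ↦ (σ ↦ x σ(y))`. -/
def conjMap : K ⊗[k] K →ₐ[K] ((K ≃ₐ[k] K) → K) :=
  Algebra.TensorProduct.lift (Algebra.ofId K _) (AlgHom.pi fun σ : K ≃ₐ[k] K => σ.toAlgHom) fun _ _ => Commute.all _ _

theorem conjMap_tmul (x y : K) (σ : K ≃ₐ[k] K) : conjMap k K (x ⊗ₜ y) σ = x * σ y := by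
  simp [conjMap, Algebra.ofId_apply]

theorem bijective_conjMap [FiniteDimensional k K] [IsGalois k K] : Function.Bijective (conjMap k K) := by
  classical
  have hsurj : Function.Surjective (conjMap k K) := by
    refine (LinearMap.range_eq_top (f := (conjMap k K).toLinearMap)).1 (Classical.byContradiction fun hne => ?_)
    obtain ⟨f, hf, hle⟩ := Submodule.exists_le_ker_of_lt_top _ (lt_top_iff_ne_top.2 hne)
    refine hf (LinearMap.pi_ext' fun σ => LinearMap.ext_ring ?_)
    have hfun : ∀ w : (K ≃ₐ[k] K) → K, f w = ∑ τ, w τ * f (Pi.single τ 1) := fun w => by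
      conv_lhs => rw [pi_eq_sum_univ' w]
      simp [map_sum]
    have hli := (linearIndependent_monoidHom K K).comp
      (fun τ : K ≃ₐ[k] K => (τ.toRingEquiv.toRingHom.toMonoidHom : K →* K))
      fun τ τ' h => AlgEquiv.ext fun x => DFunLike.congr_fun h x
    have h0 := Fintype.linearIndependent_iff.1 hli (fun τ => f (Pi.single τ 1)) (funext fun y => by
      have h1 : f (conjMap k K (1 ⊗ₜ y)) = 0 := hle (LinearMap.mem_range_self (conjMap k K).toLinearMap (1 ⊗ₜ y))
      rw [hfun] at h1
      simpa [Finset.sum_apply, conjMap_tmul, mul_comm] using h1) σ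
    simpa using h0
  refine ⟨?_, hsurj⟩
  refine (LinearMap.injective_iff_surjective_of_finrank_eq_finrank (f := (conjMap k K).toLinearMap) ?_).2 hsurj
  rw [Module.finrank_tensorProduct, Module.finrank_self, Module.finrank_fintype_fun_eq_card, one_mul]
  · exact (IsGalois.card_aut_eq_finrank k K).symm.trans Nat.card_eq_fintype_card

variable [FiniteDimensional k K] [IsGalois k K]

/-- The idempotent of a conjugation. -/
def idem (σ : K ≃ₐ[k] K) : K ⊗[k] K :=
  (AlgEquiv.ofBijective (conjMap k K) (bijective_conjMap k K)).symm (by classical exact Pi.single σ 1)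

theorem conjMap_idem [DecidableEq (K ≃ₐ[k] K)] (σ : K ≃ₐ[k] K) : conjMap k K (idem k K σ) = Pi.single σ 1 := by
  refine ((AlgEquiv.ofBijective (conjMap k K) (bijective_conjMap k K)).apply_symm_apply _).trans ?_
  congr!

theorem idem_mul (σ τ : K ≃ₐ[k] K) :
    idem k K σ * idem k K σ = idem k K σ ∧ (σ ≠ τ → idem k K σ * idem k K τ = 0) := by
  classical
  refine ⟨(bijective_conjMap k K).1 ?_, fun h => (bijective_conjMap k K).1 ?_⟩
  · rw [map_mul, conjMap_idem, ← Pi.single_mul, mul_one]
  · rw [map_mul, map_zero, conjMap_idem, conjMap_idem]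
    ext ρ
    by_cases hσ : ρ = σ
    · subst hσ; simp [h]
    · simp [hσ]

theorem idem_ne_zero (σ : K ≃ₐ[k] K) : idem k K σ ≠ 0 := fun h => by
  classical
  have := congrFun (congrArg (conjMap k K) h) σ
  simp [conjMap_idem] at this

theorem sum_smul_idem [Fintype (K ≃ₐ[k] K)] (z : K ⊗[k] K) : ∑ σ, conjMap k K z σ • idem k K σ = z := by
  classical
  refine (bijective_conjMap k K).1 ?_
  rw [map_sum]
  simp_rw [map_smul, conjMap_idem]
  exact (pi_eq_sum_univ' _).symm

theorem map_idem (ρ σ : K ≃ₐ[k] K) :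
    Algebra.TensorProduct.map ρ.toAlgHom (AlgHom.id k K) (idem k K σ) = idem k K (ρ * σ) := by
  classical
  refine (bijective_conjMap k K).1 (funext fun τ => ?_)
  have h : ∀ z, conjMap k K (Algebra.TensorProduct.map ρ.toAlgHom (AlgHom.id k K) z) τ =
      ρ (conjMap k K z (ρ⁻¹ * τ)) := fun z => by
    induction z using TensorProduct.induction_on with
    | zero => simp
    | add x y hx hy => simp [map_add, hx, hy]
    | tmul x y =>
      rw [Algebra.TensorProduct.map_tmul, conjMap_tmul, conjMap_tmul, map_mul, AlgEquiv.mul_apply,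
        ← AlgEquiv.mul_apply ρ ρ⁻¹, mul_inv_cancel]
      rfl
  rw [h, conjMap_idem, conjMap_idem]
  by_cases hτ : τ = ρ * σ
  · subst hτ; simp
  · rw [Pi.single_eq_of_ne (fun e => hτ (by rw [← e, mul_inv_cancel_left])), Pi.single_eq_of_ne hτ, map_zero]

end Galois

end Groth.L21.CycBundle
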