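import Mathlib.CategoryTheory.Abelian.Basic
import Mathlib.CategoryTheory.Preadditive.Biproducts
import Mathlib.Algebra.Category.ModuleCat.Basic
import Mathlib.LinearAlgebra.FiniteDimensional.Basic

/-!
Decompositions by complete families of orthogonal idempotents.
-/

set_option autoImplicit false
set_option backward.isDefEq.respectTransparency false
universe u v w w'

open CategoryTheory CategoryTheory.Limits

noncomputable section

namespace Groth.L21.CycBundle

variable {C : Type v} [Category.{w} C] [Abelian C] {ι : Type w'} [Fintype ι]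

/-- A presentation of an object as a sum of a finite family. -/
structure Dec (E : C) (M : ι → C) where
  j : ∀ a, M a ⟶ E
  p : ∀ a, E ⟶ M a
  j_p : ∀ a, j a ≫ p a = 𝟙 (M a)
  j_p_ne : ∀ a b, a ≠ b → j a ≫ p b = 0
  total : ∑ a, p a ≫ j a = 𝟙 E

variable {E : C} (e : ι → (E ⟶ E))

/-- Complete orthogonal idempotents give a decomposition. -/
theorem exists_dec (h1 : ∀ a, e a ≫ e a = e a) (h2 : ∀ a b, a ≠ b → e a ≫ e b = 0) (h3 : ∑ a, e a = 𝟙 E) :
    ∃ (M : ι → C) (d : Dec E M), ∀ a, d.p a ≫ d.j a = e a := by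
  have hc : ∀ a, e a ≫ (𝟙 E - e a) = 0 := fun a => by rw [Preadditive.comp_sub, Category.comp_id, h1, sub_self]
  have hj : ∀ a, kernel.ι (𝟙 E - e a) ≫ e a = kernel.ι (𝟙 E - e a) := fun a => by
    have := kernel.condition (𝟙 E - e a)
    rw [Preadditive.comp_sub, Category.comp_id, sub_eq_zero] at this
    exact this.symm
  refine ⟨fun a => kernel (𝟙 E - e a),
    { j := fun a => kernel.ι _, p := fun a => kernel.lift _ (e a) (hc a), j_p := fun a => ?_, j_p_ne := fun a b h => ?_,
      total := ?_ }, fun a => kernel.lift_ι _ _ _⟩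
  · rw [← cancel_mono (kernel.ι (𝟙 E - e a)), Category.assoc, kernel.lift_ι, Category.id_comp, hj]
  · rw [← cancel_mono (kernel.ι (𝟙 E - e b)), Category.assoc, kernel.lift_ι, zero_comp, ← hj a, Category.assoc,
      h2 a b h, comp_zero]
  · simpa using h3

variable {M : ι → C}

/-- The coproduct of the family is the object. -/
theorem Dec.nonempty_iso {α : Type} [Fintype α] {M : α → C} (d : Dec E M) : Nonempty (E ≅ ∐ M) := by
  classical
  refine ⟨{ hom := ∑ a, d.p a ≫ Sigma.ι M a, inv := Sigma.desc d.j, hom_inv_id := ?_, inv_hom_id := ?_ }⟩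
  · rw [Preadditive.sum_comp]
    simpa using d.total
  · refine Sigma.hom_ext _ _ fun a => ?_
    rw [Sigma.ι_desc_assoc, Category.comp_id, Preadditive.comp_sum, Finset.sum_eq_single a]
    · rw [← Category.assoc, d.j_p, Category.id_comp]
    · intro b _ hb
      rw [← Category.assoc, d.j_p_ne a b (Ne.symm hb), zero_comp]
    · exact fun h => absurd (Finset.mem_univ a) h

/-- Reindex a decomposition. -/
def Dec.reindex {α : Type*} [Fintype α] (σ : α ≃ ι) (d : Dec E M) : Dec E fun a => M (σ a) where
  j a := d.j (σ a)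
  p a := d.p (σ a)
  j_p a := d.j_p _
  j_p_ne a b h := d.j_p_ne _ _ fun e => h (σ.injective e)
  total := (σ.sum_comp fun a => d.p a ≫ d.j a).trans d.total

/-- Endomorphisms with no off-diagonal part are sums of diagonal ones. -/
theorem Dec.eq_sum_diag (d : Dec E M) (hoff : ∀ a b, a ≠ b → ∀ f : M a ⟶ M b, f = 0) (φ : E ⟶ E) :
    φ = ∑ a, d.p a ≫ (d.j a ≫ φ ≫ d.p a) ≫ d.j a := by
  classical
  conv_lhs => rw [← Category.id_comp φ, ← Category.comp_id φ, ← d.total]
  simp only [Preadditive.sum_comp, Preadditive.comp_sum, Category.assoc]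
  refine Finset.sum_congr rfl fun a _ => ?_
  rw [Finset.sum_eq_single a]
  · intro b _ hb
    rw [show d.j b ≫ φ ≫ d.p a ≫ d.j a = (d.j b ≫ φ ≫ d.p a) ≫ d.j a by simp, hoff b a hb (d.j b ≫ φ ≫ d.p a), zero_comp, comp_zero]
  · exact fun h => absurd (Finset.mem_univ a) h

/-- Additive functors to vector spaces add up dimensions. -/
theorem Dec.finrank_map {K : Type u} [Field K] (F : C ⥤ ModuleCat.{u} K) [F.Additive] (d : Dec E M)
    (hfin : ∀ a, Module.Finite K (F.obj (M a))) :
    Module.finrank K (F.obj E) = ∑ a, Module.finrank K (F.obj (M a)) := by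
  classical
  rw [← Module.finrank_pi_fintype K]
  refine LinearEquiv.finrank_eq
    (LinearEquiv.ofLinearMap (LinearMap.pi fun a => (F.map (d.p a)).hom)
      (∑ a, (F.map (d.j a)).hom.comp (LinearMap.proj a)) ?_ ?_)
  · refine LinearMap.pi_ext' fun a => LinearMap.ext fun x => funext fun b => ?_
    simp only [LinearMap.comp_apply, LinearMap.pi_apply, LinearMap.id_apply, LinearMap.sum_apply, map_sum,
      LinearMap.proj_apply, LinearMap.coe_single]
    rw [Finset.sum_eq_single a]
    · rw [Pi.single_eq_same]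
      show ((F.map (d.j a) ≫ F.map (d.p b)).hom x) = _
      rw [← F.map_comp]
      by_cases h : a = b
      · subst h
        rw [d.j_p, F.map_id, Pi.single_eq_same]
        rfl
      · rw [d.j_p_ne a b h, F.map_zero, Pi.single_eq_of_ne (Ne.symm h)]
        rfl
    · intro c _ hc
      rw [Pi.single_eq_of_ne hc, map_zero, map_zero]
    · exact fun h => absurd (Finset.mem_univ a) h
  · refine LinearMap.ext fun x => ?_
    simp only [LinearMap.comp_apply, LinearMap.sum_apply, LinearMap.proj_apply, LinearMap.pi_apply, LinearMap.id_apply]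
    have h := congrArg (fun q => (F.map q).hom x) d.total
    simp only [Functor.map_sum, Functor.map_comp, F.map_id] at h
    simpa using h

end Groth.L21.CycBundle
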