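import Groth.Agent.L21.CycBundle.Split
import Groth.Agent.L21.Bundle.AutCurve
import Groth.Agent.L24.KrullSchmidt.Fitting
import Groth.Agent.L03.VBPn.CotEnd

/-!
Indecomposable but not geometrically indecomposable bundles of prime rank over a finite field.
-/

set_option autoImplicit false
set_option backward.isDefEq.respectTransparency false
set_option backward.isDefEq.respectTransparency.types false
set_option linter.style.haveILetI false
universe u

open CategoryTheory CategoryTheory.Limits AlgebraicGeometry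
open scoped TensorProduct

noncomputable section

namespace Groth.L21.CycBundle

open Groth.L24.SB (homBC homBC_tmul homBC_mul bijective_homBC)
open Groth.L24.KrullSchmidt (Indec)
open Groth.L21.Bundle (rk rk_eq isCoh_of_rank)

variable {k : Type u} [Field k] [Finite k] {X : Scheme.{u}} [X.Over (Spec (CommRingCat.of k))]
  [IsProper (X ↘ Spec (CommRingCat.of k))] [Smooth (X ↘ Spec (CommRingCat.of k))]
  [GeometricallyIntegral (X ↘ Spec (CommRingCat.of k))] (hdim : topologicalKrullDim ↥X = 1)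
  (K : Type u) [Field K] [Algebra k K]

local instance : (Curv2.bc k X K).Over (Spec (CommRingCat.of K)) := ⟨Curv2.bcSnd k X K⟩

omit [Finite k] [Smooth (X ↘ Spec (CommRingCat.of k))] in
theorem constants : Function.Bijective (Coh.toGlobal (X ↘ Spec (CommRingCat.of k))) := by
  haveI : IsIntegral X := GeometricallyIntegral.isIntegral_of_subsingleton (X ↘ Spec (CommRingCat.of k))
  exact Groth.L08.Cube.bijective_toGlobal_of_geometric _

variable {E : X.Modules}

include hdim in
/-- The endomorphism ring of such a bundle is the field extension, which splits it into lines. -/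
theorem exists_split {n : ℕ} (hn : n.Prime) (hE : FlatMod.IsFinLocFreeOfRank n E) (hind : Indec E)
    (hng : ∃ (L : Type u) (_ : Field L) (_ : Algebra k L) (E₁ E₂ : (Curv2.bc k X L).Modules),
      ¬ IsZero E₁ ∧ ¬ IsZero E₂ ∧ Nonempty ((Scheme.Modules.pullback (Curv2.bcFst k X L)).obj E ≅ E₁ ⊞ E₂))
    (hK : Module.finrank k K = n) [Fintype (K ≃ₐ[k] K)] :
    ∃ (M : (K ≃ₐ[k] K) → (Curv2.bc k X K).Modules)
      (_ : Dec ((Scheme.Modules.pullback (Curv2.bcFst k X K)).obj E) M),
      (∀ σ, FlatMod.IsFinLocFreeOfRank 1 (M σ)) ∧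
      (∀ σ τ, σ ≠ τ → ¬ Nonempty (M σ ≅ M τ)) ∧
      (∀ (σ : K ≃ₐ[k] K) (L : X.Modules), PicF.IsInvertible L →
        ¬ Nonempty (M σ ≅ (Scheme.Modules.pullback (Curv2.bcFst k X K)).obj L)) ∧
      (∀ σ τ, Curv2.deg K (Curv2.bc k X K) (M σ) 1 = Curv2.deg K (Curv2.bc k X K) (M τ) 1) ∧
      Nonempty (K ≃ₐ[k] End E) := by
  classical
  haveI : FiniteDimensional k K := Module.finite_of_finrank_pos (hK ▸ hn.pos)
  haveI : Finite K := Module.finite_of_finite k
  haveI : IsIntegral X := GeometricallyIntegral.isIntegral_of_subsingleton (X ↘ Spec (CommRingCat.of k))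
  haveI : IsLocallyNoetherian X := LocallyOfFiniteType.isLocallyNoetherian (X ↘ Spec (CommRingCat.of k))
  have hcE : Coh.IsCoh E := isCoh_of_rank hE
  haveI : Module.Finite k (E ⟶ E) := Groth.L14.Quot.finite_hom hcE hcE
  haveI : Module.Finite k (End E) := ‹Module.Finite k (E ⟶ E)›
  haveI : Nontrivial (End E) := ⟨⟨1, 0, fun h => hind.1 ((IsZero.iff_id_eq_zero E).2 h)⟩⟩
  have hloc := Groth.L24.KrullSchmidt.isUnit_or_isNilpotent k hind
  obtain ⟨D, _, _, _, ι₀, hres⟩ := exists_lift (k := k) (A := End E) hloc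
  haveI : Finite D := Module.finite_of_finite k
  -- the residue field is not `k`
  have hD : Module.finrank k D ≠ 1 := fun h1 => by
    obtain ⟨L, _, _, E₁, E₂, h₁, h₂, ⟨i⟩⟩ := hng
    letI : (Curv2.bc k X L).Over (Spec (CommRingCat.of L)) := ⟨Curv2.bcSnd k X L⟩
    have hΦ := bijective_homBC (k := k) (K := L) (Curv2.bcFst k X L) (sq (k := k) (X := X) L) hcE hcE
    obtain ⟨z, hz⟩ : ∃ z : L ⊗[k] End E, homBC (k := k) (K := L) (Curv2.bcFst k X L) E E z =
        i.hom ≫ biprod.fst ≫ biprod.inl ≫ i.inv := hΦ.2 _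
    haveI : Nontrivial (L ⊗[k] End E) := ⟨⟨1, 0, fun h => h₁ ((IsZero.iff_id_eq_zero E₁).2 (by
      have h0 : 𝟙 ((Scheme.Modules.pullback (Curv2.bcFst k X L)).obj E) = 0 := by
        rw [← homBC_one L, h, map_zero]
      simpa using congrArg (fun f => biprod.inl ≫ i.inv ≫ f ≫ i.hom ≫ biprod.fst) h0))⟩⟩
    obtain ⟨N, hN⟩ := Groth.L24.KrullSchmidt.exists_jacobson_pow k E
    have hk : Function.Surjective (algebraMap k D) :=
      (LinearMap.injective_iff_surjective_of_finrank_eq_finrank (f := Algebra.linearMap k D)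
        (by rw [Module.finrank_self, h1])).1 (algebraMap k D).injective
    have hk' : ∀ a : End E, ∃ c : k, a - algebraMap k (End E) c ∈ Ring.jacobson (End E) := fun a => by
      obtain ⟨x, hx⟩ := hres a
      obtain ⟨c, rfl⟩ := hk x
      exact ⟨c, by rwa [ι₀.commutes] at hx⟩
    have hzz : z * z = z := hΦ.1 (by
      rw [homBC_mul _ (sq (k := k) (X := X) L), hz]
      simp)
    rcases idem_baseChange L hN hk' hzz with hz0 | hz0 <;> rw [hz0] at hz
    · rw [map_zero] at hz
      refine h₁ ((IsZero.iff_id_eq_zero E₁).2 ?_)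
      simpa using (congrArg (fun f => biprod.inl ≫ i.inv ≫ f ≫ i.hom ≫ biprod.fst) hz).symm
    · rw [homBC_one L] at hz
      refine h₂ ((IsZero.iff_id_eq_zero E₂).2 ?_)
      simpa using congrArg (fun f => biprod.inr ≫ i.inv ≫ f ≫ i.hom ≫ biprod.snd) hz
  -- it has degree `n`
  letI : Fintype (D ≃ₐ[k] D) := Fintype.ofFinite _
  obtain ⟨r₀, -, -, -, hr₀, -⟩ := exists_conj_dec hdim D hE hind.1 ι₀
  have hDn : Module.finrank k D = n := (hn.eq_one_or_self_of_dvd _ ⟨r₀, hr₀.symm⟩).resolve_left hD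
  obtain ⟨f₀⟩ := FiniteField.nonempty_algHom_of_finrank_dvd (F := k) (K := K) (L := D) (dvd_of_eq (hK.trans hDn.symm))
  let ι : K →ₐ[k] End E := ι₀.comp f₀
  obtain ⟨r, M, d, -, hr, hM, hd, hconj, hdeg⟩ := exists_conj_dec hdim K hE hind.1 ι
  obtain rfl : r = 1 := by
    rw [hK] at hr
    exact Nat.eq_of_mul_eq_mul_left hn.pos (hr.trans (mul_one n).symm)
  have hMne : ∀ σ, ¬ IsZero (M σ) := fun σ => Groth.L21.Bundle.not_isZero_of_rank Nat.one_pos (hM σ)
  let Φ := homBC (k := k) (K := K) (Curv2.bcFst k X K) E E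
  have hΦ : Function.Bijective Φ := bijective_homBC _ (sq (k := k) (X := X) K) hcE hcE
  -- no line descends
  have hnd : ∀ (σ : K ≃ₐ[k] K) (L : X.Modules), PicF.IsInvertible L →
      ¬ Nonempty (M σ ≅ (Scheme.Modules.pullback (Curv2.bcFst k X K)).obj L) := by
    rintro σ L hL ⟨i⟩
    have hL1 := Groth.L21.Bundle.locFree_one hL
    have hcL := isCoh_of_rank hL1
    have hLne : ¬ IsZero L := Groth.L21.Bundle.not_isZero_of_rank Nat.one_pos hL1
    obtain ⟨N', -, ⟨eL⟩⟩ := Groth.L08.Cube.exists_inverse hL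
    obtain ⟨m, α, a, hα⟩ := Groth.L24.KrullSchmidt.exists_sum_map_coh (Curv2.bcFst k X K) (sq (k := k) (X := X) K)
      hcL hcE (i.inv ≫ d.j σ)
    obtain ⟨m', β, b, hβ⟩ := Groth.L24.KrullSchmidt.exists_sum_map_coh (Curv2.bcFst k X K) (sq (k := k) (X := X) K)
      hcE hcL (d.p σ ≫ i.hom)
    obtain ⟨x, y, hxy⟩ : ∃ x y, α x ≫ β y ≠ 0 := by
      by_contra hcon
      push Not at hcon
      have h0 : (i.inv ≫ d.j σ) ≫ (d.p σ ≫ i.hom) = 0 := by
        rw [hα, hβ]
        simp only [Preadditive.sum_comp, Preadditive.comp_sum, Linear.smul_comp, Linear.comp_smul,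
          ← Functor.map_comp, hcon, Functor.map_zero, smul_zero, Finset.sum_const_zero]
      rw [Category.assoc, ← Category.assoc (d.j σ), d.j_p, Category.id_comp, Iso.inv_hom_id] at h0
      exact hMne σ (((IsZero.iff_id_eq_zero _).2 h0).of_iso i)
    obtain ⟨c, hc⟩ := Groth.L03.VBPn.exists_eq_smul_id (constants (k := k) (X := X)) eL (α x ≫ β y)
    have hc0 : c ≠ 0 := fun h => hxy (hc.trans (by rw [h]; exact zero_smul k (𝟙 L)))
    obtain ⟨eLE⟩ := Groth.L24.KrullSchmidt.nonempty_iso_of_retract hLne hind (α x) (c⁻¹ • β y)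
      (by rw [Linear.comp_smul, hc, smul_smul, inv_mul_cancel₀ hc0, one_smul])
    exact hn.ne_one ((rk_eq hE).symm.trans (rk_eq (Groth.L12.RR.rank_of_iso eLE hL1)))
  -- the lines are distinct
  have hne : ∀ σ τ, σ ≠ τ → ¬ Nonempty (M σ ≅ M τ) := by
    rintro σ τ hστ ⟨i⟩
    have hmov : ∀ γ {a b}, Nonempty (M a ≅ M b) → Nonempty (M (γ * a) ≅ M (γ * b)) := fun γ a b ⟨j⟩ => by
      obtain ⟨u⟩ := hconj γ a
      obtain ⟨v⟩ := hconj γ b
      exact ⟨u.symm ≪≫ (Scheme.Modules.pullback (conj (X := X) K γ)).mapIso j ≪≫ v⟩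
    let S : Subgroup (K ≃ₐ[k] K) :=
      { carrier := {γ | Nonempty (M γ ≅ M 1)}
        one_mem' := ⟨Iso.refl _⟩
        mul_mem' := fun {a b} ha hb => by
          obtain ⟨u⟩ := hmov a hb
          obtain ⟨v⟩ := ha
          rw [mul_one] at u
          exact ⟨u ≪≫ v⟩
        inv_mem' := fun {a} ha => by
          obtain ⟨u⟩ := hmov a⁻¹ ha
          rw [inv_mul_cancel, mul_one] at u
          exact ⟨u.symm⟩ }
    have hmem : σ⁻¹ * τ ∈ S := by
      obtain ⟨u⟩ := hmov σ⁻¹ ⟨i⟩
      rw [inv_mul_cancel] at u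
      exact ⟨u.symm⟩
    haveI : Fact (Nat.card (K ≃ₐ[k] K)).Prime := ⟨by rw [IsGalois.card_aut_eq_finrank, hK]; exact hn⟩
    have htop : S = ⊤ := (Subgroup.eq_bot_or_eq_top_of_prime_card S).resolve_left fun h => by
      rw [h, Subgroup.mem_bot, inv_mul_eq_one] at hmem
      exact hστ hmem
    have hall : ∀ γ, Nonempty (M γ ≅ M 1) := fun γ => (htop.ge (Subgroup.mem_top γ) : γ ∈ S)
    obtain ⟨a₀⟩ := (d.reindex (Fintype.equivFin (K ≃ₐ[k] K)).symm).nonempty_iso
    let a := a₀ ≪≫ Sigma.mapIso fun l => Classical.choice (hall ((Fintype.equivFin (K ≃ₐ[k] K)).symm l))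
    obtain ⟨N', -, ⟨eM⟩⟩ := Groth.L08.Cube.exists_inverse (Groth.L21.Bundle.isInvertible_of_rank (hM 1))
    have hiso : ∀ f : E ⟶ E, f ≠ 0 → IsIso f := fun f hf =>
      Groth.L24.KrullSchmidt.isIso_endo (Curv2.bcFst k X K) (sq (k := k) (X := X) K) (constants_bc K) eM
        (Groth.L22.CurveDeg.isFinLocFree_of_rank hE) hind a f hf
    haveI : NoZeroDivisors (End E) := ⟨fun {x y} hxy => or_iff_not_imp_left.2 fun hx => by
      haveI := hiso x hx
      exact ((isUnit_iff_isIso x).2 this).mul_right_eq_zero.1 hxy⟩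
    haveI : IsDomain (End E) := NoZeroDivisors.to_isDomain _
    haveI : Finite (End E) := Module.finite_of_finite k
    have hcomm : ∀ z w : K ⊗[k] End E, z * w = w * z := fun z w => by
      induction z using TensorProduct.induction_on with
      | zero => simp
      | add u v hu hv => rw [add_mul, mul_add, hu, hv]
      | tmul c α =>
        induction w using TensorProduct.induction_on with
        | zero => simp
        | add u v hu hv => rw [add_mul, mul_add, hu, hv]
        | tmul c' β =>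
          rw [Algebra.TensorProduct.tmul_mul_tmul, Algebra.TensorProduct.tmul_mul_tmul, mul_comm c,
            (Finite.isDomain_to_isField (End E)).mul_comm α β]
    obtain ⟨z, hz⟩ := hΦ.2 (d.p σ ≫ i.hom ≫ d.j τ)
    have h1 := congrArg Φ (hcomm z (Algebra.TensorProduct.map (AlgHom.id K K) ι (idem k K σ)))
    rw [homBC_mul _ (sq (k := k) (X := X) K), homBC_mul _ (sq (k := k) (X := X) K), hz] at h1
    change proj K ι σ ≫ _ = _ ≫ proj K ι σ at h1
    rw [← hd] at h1
    have h2 := congrArg (fun q => d.j σ ≫ q ≫ d.p τ) h1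
    simp [reassoc_of% (d.j_p σ), reassoc_of% (d.j_p_ne τ σ (Ne.symm hστ)), d.j_p] at h2
    exact hMne σ ((IsZero.iff_id_eq_zero _).2 (by rw [← i.hom_inv_id, h2, zero_comp]))
  refine ⟨M, d, hM, hne, hnd, hdeg, ?_⟩
  -- endomorphisms
  have hoff : ∀ σ τ, σ ≠ τ → ∀ f : M σ ⟶ M τ, f = 0 := fun σ τ h f =>
    Groth.L21.Bundle.AutCurve.hom_eq_zero K (regular_bc K) (dim_bc hdim K)
      (Groth.L21.Bundle.isInvertible_of_rank (hM σ)) (Groth.L21.Bundle.isInvertible_of_rank (hM τ)) (hdeg σ τ)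
      (hne σ τ h) f
  have hsc : ∀ σ (f : M σ ⟶ M σ), ∃ c : K, f = c • 𝟙 (M σ) := fun σ f => by
    obtain ⟨N', -, ⟨e⟩⟩ := Groth.L08.Cube.exists_inverse (Groth.L21.Bundle.isInvertible_of_rank (hM σ))
    exact Groth.L03.VBPn.exists_eq_smul_id (constants_bc K) e f
  let T := Algebra.TensorProduct.map (AlgHom.id K K) ι
  have hsurj : Function.Surjective T.toLinearMap := fun z => by
    choose c hc using fun σ => hsc σ (d.j σ ≫ Φ z ≫ d.p σ)
    refine ⟨∑ σ, c σ • idem k K σ, hΦ.1 ?_⟩
    rw [d.eq_sum_diag hoff (Φ z)]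
    simp only [hc, map_sum, map_smul, AlgHom.toLinearMap_apply]
    refine Finset.sum_congr rfl fun σ _ => ?_
    rw [Linear.smul_comp, Category.id_comp, Linear.comp_smul, hd]
    rfl
  have hdim' : Module.finrank k (End E) ≤ n := by
    have h := LinearMap.finrank_range_le T.toLinearMap
    rwa [LinearMap.range_eq_top.2 hsurj, finrank_top, Module.finrank_baseChange, Module.finrank_baseChange, hK] at h
  have hι : Function.Injective ι := ι.toRingHom.injective
  refine ⟨AlgEquiv.ofBijective ι ⟨hι, ?_⟩⟩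
  refine (LinearMap.injective_iff_surjective_of_finrank_eq_finrank (f := ι.toLinearMap) ?_).1 hι
  exact le_antisymm (LinearMap.finrank_le_finrank_of_injective (f := ι.toLinearMap) hι) (hdim'.trans hK.ge)

end Groth.L21.CycBundle
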