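import Groth.Agent.L21.CycBundle.Alg
import Groth.Agent.L21.CycBundle.Cat
import Groth.Agent.L24.SB.SplitIff
import Groth.Agent.L24.KrullSchmidt.Division
import Groth.Agent.L21.Bundle.Lines
import Groth.Agent.L21.Weil.Retract
import Groth.Agent.L21.RR.BaseChange
import Groth.Agent.L21.CurveDual.DimBC
import Groth.Agent.L08.Cube.FibreFun
import Groth.Agent.L08.Cube.Inverse
import Groth.Agent.L21.Smooth.Scheme
import Groth.Agent.L12.RR.Def.Elem
import Groth.Agent.L12.StabLimit

/-!
Splitting a bundle on a curve by a field of endomorphisms after base change to that field.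
-/

set_option autoImplicit false
set_option backward.isDefEq.respectTransparency false
set_option backward.isDefEq.respectTransparency.types false
set_option linter.style.haveILetI false
universe u

open CategoryTheory CategoryTheory.Limits AlgebraicGeometry
open scoped TensorProduct

noncomputable section

namespace Groth.L21.CycBundle

open Groth.L24.SB (homBC homBC_tmul homBC_mul bijective_homBC)
open Groth.L21.Bundle (rk dg rk_eq isCoh_of_rank)

variable {k : Type u} [Field k] {X : Scheme.{u}} [X.Over (Spec (CommRingCat.of k))]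
  [IsProper (X ↘ Spec (CommRingCat.of k))] [Smooth (X ↘ Spec (CommRingCat.of k))]
  [GeometricallyIntegral (X ↘ Spec (CommRingCat.of k))] (hdim : topologicalKrullDim ↥X = 1)
  (K : Type u) [Field K] [Algebra k K]

local instance : (Curv2.bc k X K).Over (Spec (CommRingCat.of K)) := ⟨Curv2.bcSnd k X K⟩

omit [IsProper (X ↘ Spec (CommRingCat.of k))] [Smooth (X ↘ Spec (CommRingCat.of k))]
  [GeometricallyIntegral (X ↘ Spec (CommRingCat.of k))] in
theorem sq : IsPullback (Curv2.bcFst k X K) (Curv2.bc k X K ↘ Spec (CommRingCat.of K)) (X ↘ Spec (CommRingCat.of k))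
    (Spec.map (CommRingCat.ofHom (algebraMap k K))) := IsPullback.of_hasPullback _ _

instance isIntegral_bc : IsIntegral (Curv2.bc k X K) :=
  GeometricallyIntegral.geometrically_isIntegral _ _ _ (sq (k := k) (X := X) K)

instance isProper_bc : IsProper (Curv2.bc k X K ↘ Spec (CommRingCat.of K)) :=
  MorphismProperty.of_isPullback (P := @IsProper) (sq (k := k) (X := X) K) inferInstance

instance smooth_bc : Smooth (Curv2.bc k X K ↘ Spec (CommRingCat.of K)) :=
  MorphismProperty.of_isPullback (P := @Smooth) (sq (k := k) (X := X) K) inferInstance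

instance isLocallyNoetherian_bc : IsLocallyNoetherian (Curv2.bc k X K) :=
  LocallyOfFiniteType.isLocallyNoetherian (Curv2.bc k X K ↘ Spec (CommRingCat.of K))

theorem regular_bc (y : Curv2.bc k X K) : IsRegularLocalRing ((Curv2.bc k X K).presheaf.stalk y) :=
  Groth.L21.Smooth.regular_stalk (k := K) (Curv2.bc k X K ↘ Spec (CommRingCat.of K)) y

include hdim in
theorem dim_bc : topologicalKrullDim ↥(Curv2.bc k X K) ≤ 1 := Groth.L21.CurveDual.BC.dim_bc_le hdim.le K

theorem constants_bc : Function.Bijective (Coh.toGlobal (Curv2.bc k X K ↘ Spec (CommRingCat.of K))) := by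
  haveI : GeometricallyIntegral (Curv2.bc k X K ↘ Spec (CommRingCat.of K)) :=
    MorphismProperty.of_isPullback (P := @GeometricallyIntegral) (sq (k := k) (X := X) K) inferInstance
  exact Groth.L08.Cube.bijective_toGlobal_of_geometric _

/-- The automorphism of the base change given by an automorphism of the field. -/
def conj (ρ : K ≃ₐ[k] K) : Curv2.bc k X K ⟶ Curv2.bc k X K :=
  pullback.lift (Curv2.bcFst k X K) (Curv2.bcSnd k X K ≫ Spec.map (CommRingCat.ofHom ρ.toRingEquiv.toRingHom)) (by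
    rw [Category.assoc, ← Spec.map_comp, show CommRingCat.ofHom (algebraMap k K) ≫ CommRingCat.ofHom ρ.toRingEquiv.toRingHom
        = CommRingCat.ofHom (algebraMap k K) from CommRingCat.hom_ext (RingHom.ext fun x => ρ.commutes x)]
    exact pullback.condition)

omit [IsProper (X ↘ Spec (CommRingCat.of k))] [Smooth (X ↘ Spec (CommRingCat.of k))]
  [GeometricallyIntegral (X ↘ Spec (CommRingCat.of k))] in
theorem conj_fst (ρ : K ≃ₐ[k] K) : conj (X := X) K ρ ≫ Curv2.bcFst k X K = Curv2.bcFst k X K :=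
  pullback.lift_fst _ _ _

omit [IsProper (X ↘ Spec (CommRingCat.of k))] [Smooth (X ↘ Spec (CommRingCat.of k))]
  [GeometricallyIntegral (X ↘ Spec (CommRingCat.of k))] in
theorem sq_conj (ρ : K ≃ₐ[k] K) : IsPullback (conj (X := X) K ρ) (Curv2.bc k X K ↘ Spec (CommRingCat.of K))
    (Curv2.bc k X K ↘ Spec (CommRingCat.of K)) (Spec.map (CommRingCat.ofHom ρ.toRingEquiv.toRingHom)) := by
  refine IsPullback.of_right ?_ (pullback.lift_snd _ _ _) (sq (k := k) (X := X) K)
  rw [conj_fst, ← Spec.map_comp, show CommRingCat.ofHom (algebraMap k K) ≫ CommRingCat.ofHom ρ.toRingEquiv.toRingHom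
      = CommRingCat.ofHom (algebraMap k K) from CommRingCat.hom_ext (RingHom.ext fun x => ρ.commutes x)]
  exact sq (k := k) (X := X) K

omit [IsProper (X ↘ Spec (CommRingCat.of k))] [Smooth (X ↘ Spec (CommRingCat.of k))]
  [GeometricallyIntegral (X ↘ Spec (CommRingCat.of k))] in
/-- Pulling back along the conjugation is semilinear. -/
theorem conj_map_smul (ρ : K ≃ₐ[k] K) {M N : (Curv2.bc k X K).Modules} (c : K) (f : M ⟶ N) :
    (Scheme.Modules.pullback (conj (X := X) K ρ)).map (c • f) =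
      ρ c • (Scheme.Modules.pullback (conj (X := X) K ρ)).map f :=
  @Groth.L24.SB.pullback_map_smul K _ (Curv2.bc k X K) _ K _ ρ.toRingEquiv.toRingHom.toAlgebra (Curv2.bc k X K) _
    (conj (X := X) K ρ) (sq_conj (X := X) K ρ) M N c f

/-- Pulling back along the conjugation keeps Euler characteristics. -/
theorem euler_conj (ρ : K ≃ₐ[k] K) {M : (Curv2.bc k X K).Modules} (hM : Coh.IsCoh M) :
    Curv2.euler K (Curv2.bc k X K) ((Scheme.Modules.pullback (conj (X := X) K ρ)).obj M) =
      Curv2.euler K (Curv2.bc k X K) M := by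
  letI : Algebra K K := ρ.toRingEquiv.toRingHom.toAlgebra
  exact Groth.L21.RR.euler_pullback (k := K) (K := K) (conj (X := X) K ρ) (sq_conj (X := X) K ρ) hM

/-- The pulled back bundle does not change under conjugation. -/
def conjIso (ρ : K ≃ₐ[k] K) : Scheme.Modules.pullback (Curv2.bcFst k X K) ⋙ Scheme.Modules.pullback (conj (X := X) K ρ)
    ≅ Scheme.Modules.pullback (Curv2.bcFst k X K) :=
  Scheme.Modules.pullbackComp _ _ ≪≫ Scheme.Modules.pullbackCongr (conj_fst (X := X) K ρ)

omit [IsProper (X ↘ Spec (CommRingCat.of k))] [Smooth (X ↘ Spec (CommRingCat.of k))]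
  [GeometricallyIntegral (X ↘ Spec (CommRingCat.of k))] in
theorem conj_homBC (ρ : K ≃ₐ[k] K) {E : X.Modules} (z : K ⊗[k] End E) :
    (Scheme.Modules.pullback (conj (X := X) K ρ)).map (homBC (k := k) (K := K) (Curv2.bcFst k X K) E E z) ≫
      (conjIso (X := X) K ρ).hom.app E = (conjIso (X := X) K ρ).hom.app E ≫
      homBC (k := k) (K := K) (Curv2.bcFst k X K) E E (Algebra.TensorProduct.map ρ.toAlgHom (AlgHom.id k (End E)) z) := by
  induction z using TensorProduct.induction_on with
  | zero => simp only [map_zero, Functor.map_zero]; exact Limits.zero_comp.trans Limits.comp_zero.symm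
  | add x y hx hy =>
    rw [map_add, map_add, map_add, Functor.map_add, Preadditive.add_comp, Preadditive.comp_add, hx, hy]
  | tmul c α =>
    rw [Algebra.TensorProduct.map_tmul, homBC_tmul _ (sq (k := k) (X := X) K), homBC_tmul _ (sq (k := k) (X := X) K),
      conj_map_smul, Linear.smul_comp, Linear.comp_smul]
    congr 1
    exact (conjIso (X := X) K ρ).hom.naturality α

variable [FiniteDimensional k K] [IsGalois k K] {E : X.Modules}

/-- The idempotents attached to a field of endomorphisms. -/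
def proj (ι : K →ₐ[k] End E) (σ : K ≃ₐ[k] K) :
    (Scheme.Modules.pullback (Curv2.bcFst k X K)).obj E ⟶ (Scheme.Modules.pullback (Curv2.bcFst k X K)).obj E :=
  homBC (k := k) (K := K) (Curv2.bcFst k X K) E E (Algebra.TensorProduct.map (AlgHom.id K K) ι (idem k K σ))

omit [IsProper (X ↘ Spec (CommRingCat.of k))] [Smooth (X ↘ Spec (CommRingCat.of k))]
  [GeometricallyIntegral (X ↘ Spec (CommRingCat.of k))] in
theorem proj_comp (ι : K →ₐ[k] End E) (σ τ : K ≃ₐ[k] K) : proj K ι σ ≫ proj K ι τ =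
    homBC (k := k) (K := K) (Curv2.bcFst k X K) E E
      (Algebra.TensorProduct.map (AlgHom.id K K) ι (idem k K τ * idem k K σ)) := by
  exact (homBC_mul _ (sq (k := k) (X := X) K) _ _).symm.trans (congrArg _ (map_mul _ _ _).symm)

omit [IsProper (X ↘ Spec (CommRingCat.of k))] [Smooth (X ↘ Spec (CommRingCat.of k))]
  [GeometricallyIntegral (X ↘ Spec (CommRingCat.of k))] [FiniteDimensional k K] [IsGalois k K] in
theorem homBC_one : homBC (k := k) (K := K) (Curv2.bcFst k X K) E E (1 : K ⊗[k] End E) = 𝟙 _ := by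
  rw [Algebra.TensorProduct.one_def, homBC_tmul _ (sq (k := k) (X := X) K), one_smul]
  exact (Scheme.Modules.pullback _).map_id E

omit [IsProper (X ↘ Spec (CommRingCat.of k))] [Smooth (X ↘ Spec (CommRingCat.of k))]
  [GeometricallyIntegral (X ↘ Spec (CommRingCat.of k))] in
theorem conj_proj (ι : K →ₐ[k] End E) (ρ σ : K ≃ₐ[k] K) :
    (Scheme.Modules.pullback (conj (X := X) K ρ)).map (proj K ι σ) ≫ (conjIso (X := X) K ρ).hom.app E =
      (conjIso (X := X) K ρ).hom.app E ≫ proj K ι (ρ * σ) := by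
  rw [proj, conj_homBC, proj, ← map_idem]
  congr 2
  generalize idem k K σ = z
  induction z using TensorProduct.induction_on with
  | zero => simp
  | add x y hx hy => simp only [map_add, hx, hy]
  | tmul a b => rfl

include hdim in
/-- A field of endomorphisms splits the bundle after base change into conjugate bundles. -/
theorem exists_conj_dec {n : ℕ} (hE : FlatMod.IsFinLocFreeOfRank n E) (hEne : ¬ IsZero E) (ι : K →ₐ[k] End E)
    [Fintype (K ≃ₐ[k] K)] :
    ∃ (r : ℕ) (M : (K ≃ₐ[k] K) → (Curv2.bc k X K).Modules)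
      (d : Dec ((Scheme.Modules.pullback (Curv2.bcFst k X K)).obj E) M),
      0 < r ∧ Module.finrank k K * r = n ∧ (∀ σ, FlatMod.IsFinLocFreeOfRank r (M σ)) ∧
      (∀ σ, d.p σ ≫ d.j σ = proj K ι σ) ∧
      (∀ ρ σ, Nonempty ((Scheme.Modules.pullback (conj (X := X) K ρ)).obj (M σ) ≅ M (ρ * σ))) ∧
      ∀ σ τ, Curv2.deg K (Curv2.bc k X K) (M σ) r = Curv2.deg K (Curv2.bc k X K) (M τ) r := by
  classical
  haveI : IsLocallyNoetherian X := LocallyOfFiniteType.isLocallyNoetherian (X ↘ Spec (CommRingCat.of k))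
  let Φ := homBC (k := k) (K := K) (Curv2.bcFst k X K) E E
  have hcE : Coh.IsCoh E := Groth.L16.NegPow.isCoh_of_isFinLocFree (Groth.L22.CurveDeg.isFinLocFree_of_rank hE)
  have hΦ : Function.Bijective Φ := bijective_homBC _ (sq (k := k) (X := X) K) hcE hcE
  haveI : Nontrivial (End E) := ⟨⟨1, 0, fun h => hEne ((IsZero.iff_id_eq_zero E).2 h)⟩⟩
  have hι : Function.Injective ι := ι.toRingHom.injective
  have hι' : Function.Injective (Algebra.TensorProduct.map (AlgHom.id K K) ι) := by
    have h := Module.Flat.lTensor_preserves_injective_linearMap (M := K) ι.toLinearMap hι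
    exact fun a b hab => h hab
  let e := proj (X := X) K ι
  have h1 : ∀ σ, e σ ≫ e σ = e σ := fun σ => by
    rw [proj_comp, (idem_mul k K σ σ).1]; rfl
  have h2 : ∀ σ τ, σ ≠ τ → e σ ≫ e τ = 0 := fun σ τ h => by
    rw [proj_comp, (idem_mul k K τ σ).2 (Ne.symm h), map_zero]; exact map_zero Φ
  have h3 : ∑ σ, e σ = 𝟙 _ := by
    have hs := sum_smul_idem k K (1 : K ⊗[k] K)
    simp only [map_one, Pi.one_apply, one_smul] at hs
    rw [show ∑ σ, e σ = Φ (Algebra.TensorProduct.map (AlgHom.id K K) ι (∑ σ, idem k K σ)) by simp only [map_sum]; rfl,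
      hs, map_one]
    exact homBC_one K
  obtain ⟨M, d, hd⟩ := exists_dec e h1 h2 h3
  have hY : FlatMod.IsFinLocFreeOfRank n ((Scheme.Modules.pullback (Curv2.bcFst k X K)).obj E) :=
    Groth.L12.StabLimit.isFinLocFreeOfRank_pullback _ hE
  have hlf : ∀ σ, FlatMod.IsFinLocFreeOfRank (rk (M σ)) (M σ) := fun σ =>
    (Groth.L21.Weil.bundle_of_retract (regular_bc K) (dim_bc hdim K) hY ⟨d.j σ, d.p σ, d.j_p σ⟩).1
  have hconj : ∀ ρ σ, Nonempty ((Scheme.Modules.pullback (conj (X := X) K ρ)).obj (M σ) ≅ M (ρ * σ)) := fun ρ σ => by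
    let S := Scheme.Modules.pullback (conj (X := X) K ρ)
    let η := (conjIso (X := X) K ρ).app E
    have hη : S.map (d.p σ) ≫ S.map (d.j σ) ≫ η.hom = η.hom ≫ d.p (ρ * σ) ≫ d.j (ρ * σ) := by
      rw [← Category.assoc, ← S.map_comp, hd, hd]
      exact conj_proj K ι ρ σ
    have hjp : S.map (d.j σ) ≫ S.map (d.p σ) = 𝟙 _ := by rw [← S.map_comp, d.j_p, S.map_id]
    refine ⟨{ hom := S.map (d.j σ) ≫ η.hom ≫ d.p (ρ * σ), inv := d.j (ρ * σ) ≫ η.inv ≫ S.map (d.p σ),
              hom_inv_id := ?_, inv_hom_id := ?_ }⟩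
    · calc _ = S.map (d.j σ) ≫ (η.hom ≫ d.p (ρ * σ) ≫ d.j (ρ * σ)) ≫ η.inv ≫ S.map (d.p σ) := by
            simp only [Category.assoc]
        _ = _ := by rw [← hη]; simp [reassoc_of% hjp, hjp]; rfl
    · calc _ = d.j (ρ * σ) ≫ η.inv ≫ (S.map (d.p σ) ≫ S.map (d.j σ) ≫ η.hom) ≫ d.p (ρ * σ) := by
            simp only [Category.assoc]
        _ = _ := by rw [hη]; simp [reassoc_of% (d.j_p (ρ * σ)), d.j_p]
  have hrk : ∀ σ τ, rk (M σ) = rk (M τ) := fun σ τ => by
    obtain ⟨i⟩ := hconj (τ * σ⁻¹) σ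
    rw [inv_mul_cancel_right] at i
    exact (rk_eq (Groth.L12.RR.rank_of_iso i
      (Groth.L12.StabLimit.isFinLocFreeOfRank_pullback _ (hlf σ)))).symm
  refine ⟨rk (M 1), M, d, ?_, ?_, fun σ => hrk σ 1 ▸ hlf σ, hd, hconj, fun σ τ => ?_⟩
  · refine Nat.pos_of_ne_zero fun h0 => idem_ne_zero k K 1 (hι' (hΦ.1 ?_))
    have hz : IsZero (M 1) := Groth.L21.Bundle.isZero_of_rank_zero (h0 ▸ hlf 1)
    rw [map_zero, map_zero, show Φ _ = d.p 1 ≫ d.j 1 from (hd 1).symm, hz.eq_of_tgt (d.p 1) 0, zero_comp]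
  · haveI : (Groth.L00.Stk.F (Curv2.bc k X K) (genericPoint (Curv2.bc k X K))).Additive := inferInstance
    have hs := Dec.finrank_map (K := (Curv2.bc k X K).functionField)
      (Groth.L00.Stk.F (Curv2.bc k X K) (genericPoint (Curv2.bc k X K))) d
      (fun σ => Groth.L21.Bundle.finite_generic (isCoh_of_rank (hlf σ)))
    have hs' : rk ((Scheme.Modules.pullback (Curv2.bcFst k X K)).obj E) = ∑ σ, rk (M σ) := hs
    rw [rk_eq hY, Finset.sum_congr rfl fun σ _ => hrk σ 1, Finset.sum_const, Finset.card_univ, smul_eq_mul] at hs'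
    rw [hs', ← Nat.card_eq_fintype_card, IsGalois.card_aut_eq_finrank]
  · obtain ⟨i⟩ := hconj (τ * σ⁻¹) σ
    rw [inv_mul_cancel_right] at i
    simp only [Curv2.deg, ← Groth.L21.RR.euler_congr K i, euler_conj K (τ * σ⁻¹) (isCoh_of_rank (hlf σ))]

end Groth.L21.CycBundle
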